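import Groth.Agent.QReg16Lib.Basic
import Mathlib.RingTheory.Polynomial.Basic

/-! The ideal of a weakly regular sequence is of linear type (no Noetherian hypothesis). -/

set_option autoImplicit false
universe u

open MvPolynomial CommAlgDim Groth.Agent.QReg16Lib

namespace Groth.Agent.RRAlgLib

variable {A : Type u} [CommRing A]

/-- The ideal of the trivial relations. -/
noncomputable def L {r : ℕ} (x : Fin r → A) : Ideal (MvPolynomial (Fin r) A) :=
  Ideal.span {q : MvPolynomial (Fin r) A | ∃ i j : Fin r, q = C (x i) * X j - C (x j) * X i}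

theorem rename_mem {r : ℕ} (x : Fin (r + 1) → A) {P : MvPolynomial (Fin r) A}
    (h : P ∈ L (fun i : Fin r => x i.succ)) : rename Fin.succ P ∈ L x := by
  have hle : (L fun i : Fin r => x i.succ).map (rename (R := A) (Fin.succ (n := r))).toRingHom ≤ L x := by
    rw [L, Ideal.map_span, Ideal.span_le]
    rintro _ ⟨q, ⟨i, j, rfl⟩, rfl⟩
    exact Ideal.subset_span ⟨i.succ, j.succ, by simp⟩
  exact hle (Ideal.mem_map_of_mem _ h)

theorem exists_sum {r : ℕ} (x : Fin r → A) (J : Ideal A) {y : A} (hy : y ∈ Ideal.span (Set.range x) * J) :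
    ∃ z : Fin r → A, (∀ i, z i ∈ J) ∧ y = ∑ i, x i * z i := by
  induction hy using Submodule.mul_induction_on' with
  | mem_mul_mem b hb c hc =>
    obtain ⟨k, rfl⟩ := (Submodule.mem_span_range_iff_exists_fun A).1 hb
    exact ⟨fun i => k i * c, fun i => J.mul_mem_left _ hc, by
      simp only [smul_eq_mul, Finset.sum_mul]
      exact Finset.sum_congr rfl fun i _ => by ring⟩
  | add a _ b _ ha hb =>
    obtain ⟨z, hz, rfl⟩ := ha
    obtain ⟨w, hw, rfl⟩ := hb
    exact ⟨z + w, fun i => add_mem (hz i) (hw i), by simp [mul_add, Finset.sum_add_distrib]⟩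

theorem eq_C_of_isHomogeneous_zero {σ : Type*} {F : MvPolynomial σ A} (hF : F.IsHomogeneous 0) :
    F = C (F.coeff 0) := by
  classical
  ext t
  rw [coeff_C]
  split_ifs with h
  · rw [h]
  · exact hF.coeff_eq_zero (by simpa [Finsupp.degree_eq_zero_iff] using Ne.symm h)

theorem regular_pow {r : ℕ} (x : Fin (r + 1) → A) (hx : NR' x) : ∀ m a,
    x 0 * a ∈ Ideal.span (Set.range fun i : Fin r => x i.succ) ^ m →
      a ∈ Ideal.span (Set.range fun i : Fin r => x i.succ) ^ m := by
  obtain ⟨hreg, hx'⟩ := hx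
  intro m
  induction m with
  | zero => intro a _; simp
  | succ m ihm =>
    intro a ha
    obtain ⟨G, hG, rfl⟩ := exists_isHomogeneous_eval_eq (fun i : Fin r => x i.succ) m
      (ihm a (Ideal.pow_le_pow_right m.le_succ ha))
    refine eval_mem_pow_succ _ _ (fun i => Ideal.subset_span (Set.mem_range_self i)) hG fun s => hreg _ ?_
    have := qr_of_nr' _ hx' m (C (x 0) * G) (hG.C_mul _) (by rw [map_mul, eval_C]; exact ha) s
    rwa [coeff_C_mul] at this

theorem mem_L : ∀ {r : ℕ} (x : Fin r → A), NR' x → ∀ (n : ℕ) {F : MvPolynomial (Fin r) A},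
    F.IsHomogeneous n → eval x F = 0 → F ∈ L x
  | 0, x, _, n, F, hF, he => by
    have hFC : F = C (F.coeff 0) := by
      classical
      ext t
      rw [Subsingleton.elim t 0, coeff_C, if_pos rfl]
    rw [hFC, eval_C] at he
    rw [hFC, he, map_zero]
    exact zero_mem _
  | r + 1, x, hx, n, F, hF, he => by
    induction n generalizing F with
    | zero =>
      rw [eq_C_of_isHomogeneous_zero hF, eval_C] at he
      rw [eq_C_of_isHomogeneous_zero hF, he, map_zero]
      exact zero_mem _
    | succ n ihn =>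
      obtain ⟨F0, F1, hF0, hF1, rfl⟩ := exists_split hF
      rw [map_add, map_mul, eval_X, eval_rename] at he
      let x' : Fin r → A := fun i => x i.succ
      have hxm' : ∀ i, x' i ∈ Ideal.span (Set.range x') := fun i => Ideal.subset_span ⟨i, rfl⟩
      have h1 : eval x F1 ∈ Ideal.span (Set.range x') ^ (n + 1) := regular_pow x hx _ _ (by
        rw [eq_neg_of_add_eq_zero_right he]
        exact neg_mem (eval_mem_pow _ _ hxm' hF0))
      rw [pow_succ'] at h1
      obtain ⟨z, hz, hze⟩ := exists_sum x' _ h1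
      choose H hH hHe using fun i => exists_isHomogeneous_eval_eq x' n (hz i)
      let K := F1 - ∑ i, C (x' i) * rename Fin.succ (H i)
      have hev : ∀ i, eval x (rename Fin.succ (H i)) = eval x' (H i) := fun i => eval_rename _ _ _
      have hK : K ∈ L x := ihn (F := K) (hF1.sub (IsHomogeneous.sum _ _ _ fun i _ => ((hH i).rename_isHomogeneous).C_mul _))
        (by simp only [K, map_sub, map_sum, map_mul, eval_C, hev, hHe, hze, sub_self])
      have hP : F0 + C (x 0) * ∑ i, X i * H i ∈ L x' := by
        refine mem_L x' hx.2 (n + 1) (hF0.add (IsHomogeneous.C_mul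
          (IsHomogeneous.sum _ _ _ fun i _ => by rw [add_comm n]; exact (isHomogeneous_X A i).mul (hH i)) _)) ?_
        simp only [map_add, map_mul, map_sum, eval_C, eval_X, hHe]
        rw [← hze]
        exact he
      have e2 : ∑ i, rename Fin.succ (H i) * (C (x' i) * X 0 - C (x 0) * X i.succ) =
          X 0 * ∑ i, C (x' i) * rename Fin.succ (H i) - C (x 0) * ∑ i, X i.succ * rename Fin.succ (H i) := by
        rw [Finset.mul_sum, Finset.mul_sum, ← Finset.sum_sub_distrib]
        exact Finset.sum_congr rfl fun i _ => by ring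
      have e : rename Fin.succ F0 + X 0 * F1 = rename Fin.succ (F0 + C (x 0) * ∑ i, X i * H i) + X 0 * K +
          ∑ i, rename Fin.succ (H i) * (C (x' i) * X 0 - C (x 0) * X i.succ) := by
        rw [e2, map_add, map_mul, rename_C, map_sum]
        simp only [K, map_mul, rename_X]
        ring
      rw [e]
      exact add_mem (add_mem (rename_mem x hP) (Ideal.mul_mem_left _ _ hK))
        (sum_mem fun i _ => Ideal.mul_mem_left _ _ (Ideal.subset_span ⟨i.succ, 0, rfl⟩))

theorem mem_L_of_isWeaklyRegular {r : ℕ} (a : Fin r → A)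
    (ha : RingTheory.Sequence.IsWeaklyRegular A (List.ofFn a)) {n : ℕ} {F : MvPolynomial (Fin r) A}
    (hF : F.IsHomogeneous n) (he : eval a F = 0) : F ∈ L a := by
  have hx := nr'_of_nr _ ((FVLib.nr_iff a).2 ha)
  let σ : Fin r → Fin r := Fin.rev
  have h := mem_L (fun i => a (σ i)) hx n (F := rename σ F) hF.rename_isHomogeneous (by
    rw [eval_rename, show (fun i => a (σ i)) ∘ σ = a from funext fun i => congrArg a (Fin.rev_rev i)]
    exact he)
  have hle : (L fun i => a (σ i)).map (rename (R := A) σ).toRingHom ≤ L a := by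
    rw [L, Ideal.map_span, Ideal.span_le]
    rintro _ ⟨q, ⟨i, j, rfl⟩, rfl⟩
    exact Ideal.subset_span ⟨σ i, σ j, by simp⟩
  have h2 := hle (Ideal.mem_map_of_mem _ h)
  change rename σ (rename σ F) ∈ L a at h2
  rwa [rename_rename, show σ ∘ σ = id from funext Fin.rev_rev, rename_id, AlgHom.id_apply] at h2

end Groth.Agent.RRAlgLib
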